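import Groth.Agent.Lib.SepDense19.Basic
import Mathlib.CategoryTheory.Monoidal.Cartesian.Over
import Mathlib.CategoryTheory.Monoidal.Cartesian.Grp

/-!
# Factorisations and equalities detected on field-valued points
-/

set_option autoImplicit false
set_option linter.style.haveILetI false
set_option backward.isDefEq.respectTransparency.types false
universe u

open CategoryTheory CategoryTheory.Limits MonoidalCategory CartesianMonoidalCategory MonObj AlgebraicGeometry

namespace Groth.Agent.PtsDetect19

variable {k : Type u} [Field k] (K : Type u) [Field K] [Algebra k K]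

/-- The spectrum of the extension field over the base. -/
noncomputable abbrev sp : Over (Spec (CommRingCat.of k)) :=
  Over.mk (Spec.map (CommRingCat.ofHom (algebraMap k K)))

variable {W X Z : Over (Spec (CommRingCat.of k))}

theorem lift_of_range [IsReduced W.left] (h : W ⟶ X) (c : Z ⟶ X) [IsClosedImmersion c.left]
    (hr : Set.range h.left ⊆ Set.range c.left) : ∃ l : W ⟶ Z, l ≫ c = h := by
  obtain ⟨g, hg⟩ := RedSepLib.exists_lift_of_range_subset h.left c.left hr
  exact ⟨Over.homMk g (by rw [← Over.w c, reassoc_of% hg, Over.w h]), Over.OverMorphism.ext hg⟩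

/-- A morphism from a geometrically reduced scheme whose values at separably closed points lie in a
closed subscheme factors through it. -/
theorem exists_lift [IsSepClosed K] [LocallyOfFiniteType W.hom] [GeometricallyReduced W.hom]
    (h : W ⟶ X) (c : Z ⟶ X) [IsClosedImmersion c.left]
    (hp : ∀ w : sp (k := k) K ⟶ W, ∃ z, z ≫ c = w ≫ h) : ∃ l : W ⟶ Z, l ≫ c = h := by
  haveI : IsReduced W.left := GeometricallyReduced.isReduced_of_flat_of_isLocallyNoetherian W.hom
  exact lift_of_range h c (SepDense19.range_subset_of_points K h c hp)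

attribute [local instance] Curv2.resAlgebra in
/-- Closed points of schemes of finite type have values in algebraically closed fields. -/
theorem exists_point [IsAlgClosed K] [LocallyOfFiniteType W.hom] (y : W.left) (hy : IsClosed {y}) :
    ∃ w : sp (k := k) K ⟶ W, ∀ p, w.left p = y := by
  letI : W.left.Over (Spec (CommRingCat.of k)) := ⟨W.hom⟩
  haveI : JacobsonSpace W.left := LocallyOfFiniteType.jacobsonSpace (Y := Spec _) W.hom
  have k0 : Spec.map (CommRingCat.ofHom (Curv2.resMap k W.left y)) = W.left.fromSpecResidueField y ≫ W.hom :=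
    GeomIrr.spec_resMap k W.left y
  haveI : LocallyOfFiniteType (W.left.fromSpecResidueField y) :=
    isClosed_singleton_iff_locallyOfFiniteType.1 hy
  have hl : LocallyOfFiniteType (Spec.map (CommRingCat.ofHom (Curv2.resMap k W.left y))) := by
    rw [k0]; infer_instance
  haveI : Algebra.FiniteType k (W.left.residueField y) :=
    RingHom.finiteType_algebraMap.1 ((HasRingHomProperty.Spec_iff (P := @LocallyOfFiniteType)).1 hl)
  haveI : FiniteDimensional k (W.left.residueField y) :=
    finite_of_finite_type_of_isJacobsonRing k (W.left.residueField y)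
  let σ : W.left.residueField y →ₐ[k] K := IsAlgClosed.lift
  have k1 : σ.toRingHom.comp (Curv2.resMap k W.left y) = algebraMap k K := σ.comp_algebraMap
  refine ⟨Over.homMk (Spec.map (CommRingCat.ofHom σ.toRingHom) ≫ W.left.fromSpecResidueField y) ?_, fun p => ?_⟩
  · show (Spec.map (CommRingCat.ofHom σ.toRingHom) ≫ W.left.fromSpecResidueField y) ≫ W.hom = Spec.map _
    rw [Category.assoc, ← k0, ← Spec.map_comp, ← CommRingCat.ofHom_comp, k1]
  · refine Eq.trans (Scheme.Hom.comp_apply (Spec.map (CommRingCat.ofHom σ.toRingHom))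
      (W.left.fromSpecResidueField y) p) ?_
    erw [Scheme.fromSpecResidueField_apply]

/-- Over an algebraically closed field valued points, reducedness suffices. -/
theorem exists_lift_algClosed [IsAlgClosed K] [LocallyOfFiniteType W.hom] [IsReduced W.left]
    (h : W ⟶ X) (c : Z ⟶ X) [IsClosedImmersion c.left]
    (hp : ∀ w : sp (k := k) K ⟶ W, ∃ z, z ≫ c = w ≫ h) : ∃ l : W ⟶ Z, l ≫ c = h := by
  haveI : JacobsonSpace W.left := LocallyOfFiniteType.jacobsonSpace (Y := Spec _) W.hom
  have hcl : IsClosed (h.left ⁻¹' Set.range c.left) :=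
    c.left.isClosedEmbedding.isClosed_range.preimage h.left.continuous
  refine lift_of_range h c ?_
  rintro _ ⟨y, rfl⟩
  refine closure_minimal ?_ hcl (closure_closedPoints.ge (Set.mem_univ y))
  intro x hx
  obtain ⟨w, hw⟩ := exists_point K x hx
  obtain ⟨z, hz⟩ := hp w
  let p : Spec (CommRingCat.of K) := IsLocalRing.closedPoint K
  have h1 : z.left ≫ c.left = w.left ≫ h.left := congrArg CommaMorphism.left hz
  refine ⟨z.left p, ?_⟩
  have h2 := congrArg (fun q : Spec (CommRingCat.of K) ⟶ X.left => q p) h1
  simp only [Scheme.Hom.comp_apply] at h2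
  rwa [hw p] at h2

/-- The diagonal is a closed immersion. -/
theorem isClosedImmersion_diag (X : Over (Spec (CommRingCat.of k))) [IsSeparated X.hom] :
    IsClosedImmersion (lift (𝟙 X) (𝟙 X)).left := by
  have : (lift (𝟙 X) (𝟙 X)).left = pullback.diagonal X.hom := by
    apply pullback.hom_ext
    · rw [pullback.diagonal_fst, ← Over.fst_left, ← Over.comp_left, lift_fst]; rfl
    · rw [pullback.diagonal_snd, ← Over.snd_left, ← Over.comp_left, lift_snd]; rfl
  rw [this]
  infer_instance

/-- Morphisms from a geometrically reduced scheme to a separated one agreeing on separably closed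
points are equal. -/
theorem hom_ext_points [IsSepClosed K] [LocallyOfFiniteType W.hom] [GeometricallyReduced W.hom]
    [IsSeparated X.hom] (f g : W ⟶ X) (h : ∀ w : sp (k := k) K ⟶ W, w ≫ f = w ≫ g) : f = g := by
  haveI := isClosedImmersion_diag X
  obtain ⟨l, hl⟩ := exists_lift K (lift f g) (lift (𝟙 X) (𝟙 X))
    (fun w => ⟨w ≫ f, by rw [comp_lift, comp_lift, Category.comp_id, h]⟩)
  have h1 := congrArg (· ≫ fst X X) hl
  have h2 := congrArg (· ≫ snd X X) hl
  simp only [Category.assoc, lift_fst, lift_snd, Category.comp_id] at h1 h2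
  exact h1.symm.trans h2

/-- Conjugation formula: a normal homomorphism from a lift of the universal conjugate. -/
theorem isNormalHom_of_lift {G H : Over (Spec (CommRingCat.of k))} [GrpObj G] [GrpObj H] (i : H ⟶ G)
    (c : G ⊗ H ⟶ H) (hc : c ≫ i = fst G H * (snd G H ≫ i) * (fst G H)⁻¹) (T : Over (Spec (CommRingCat.of k)))
    (g : T ⟶ G) (n : T ⟶ H) : ∃ n' : T ⟶ H, g * (n ≫ i) * g⁻¹ = n' ≫ i := by
  refine ⟨lift g n ≫ c, ?_⟩
  rw [Category.assoc, hc, MonObj.comp_mul, MonObj.comp_mul, GrpObj.comp_inv, lift_fst, lift_snd_assoc]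

end Groth.Agent.PtsDetect19

namespace Groth.Agent.PtsDetect19

variable {k : Type u} [Field k] (K : Type u) [Field K] [Algebra k K] {W X Z : Over (Spec (CommRingCat.of k))}

/-- Schematically dense points detect factorisation through closed subschemes. -/
theorem exists_lift_dense
    (hd : ∀ (Z : Over (Spec (CommRingCat.of k))) (c : Z ⟶ W), IsClosedImmersion c.left →
      (∀ h : sp (k := k) K ⟶ W, ∃ z : sp (k := k) K ⟶ Z, z ≫ c = h) → IsIso c)
    (h : W ⟶ X) (c : Z ⟶ X) [IsClosedImmersion c.left]
    (hp : ∀ w : sp (k := k) K ⟶ W, ∃ z, z ≫ c = w ≫ h) : ∃ l : W ⟶ Z, l ≫ c = h := by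
  let P : Over (Spec (CommRingCat.of k)) := Over.mk (pullback.fst h.left c.left ≫ W.hom)
  let π : P ⟶ W := Over.homMk (pullback.fst h.left c.left) rfl
  let σ : P ⟶ Z := Over.homMk (pullback.snd h.left c.left) (by
    show pullback.snd h.left c.left ≫ Z.hom = pullback.fst h.left c.left ≫ W.hom
    rw [← Over.w c, ← Over.w h, ← pullback.condition_assoc])
  haveI : IsIso π := by
    refine hd P π (inferInstanceAs (IsClosedImmersion (pullback.fst h.left c.left))) fun w => ?_
    obtain ⟨z, hz⟩ := hp w
    refine ⟨Over.homMk (pullback.lift w.left z.left (congrArg CommaMorphism.left hz).symm) ?_,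
      Over.OverMorphism.ext (pullback.lift_fst _ _ _)⟩
    show pullback.lift w.left z.left _ ≫ pullback.fst h.left c.left ≫ W.hom = _
    rw [pullback.lift_fst_assoc, Over.w w]
  have e : π ≫ h = σ ≫ c := Over.OverMorphism.ext pullback.condition
  exact ⟨inv π ≫ σ, by rw [Category.assoc, ← e, IsIso.inv_hom_id_assoc]⟩

end Groth.Agent.PtsDetect19
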